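import Cfsg.Agent.Lib.CITThree.Setup
import Cfsg.Agent.Lib.SFour.Functor
import Cfsg.Agent.Lib.Techniques.JeClassTwo

/-!
# Involution centralisers that are 2-groups, order prime to three

The normaliser of the universal characteristic subgroup of a Sylow 2-subgroup contains all 2-local
subgroups; hence the Sylow 2-subgroup is a trivial intersection set.
-/

set_option autoImplicit false
set_option linter.style.haveILetI false

namespace CfsgLib.CITThree

open Subgroup CfsgLib.Fusion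

universe u

variable {G : Type u} [Group G]

/-- Every centraliser of an involution is a `2`-group. -/
def CIT (G : Type u) [Group G] : Prop :=
  ∀ t : G, orderOf t = 2 → IsPGroup 2 (centralizer ({t} : Set G))

/-- A nontrivial `2`-element has a power of order two. -/
theorem exists_pow_involution {q : G} (h1 : q ≠ 1) {k : ℕ} (hk : q ^ 2 ^ k = 1) :
    ∃ j : ℕ, orderOf (q ^ 2 ^ j) = 2 := by
  obtain ⟨i, -, hi⟩ := (Nat.dvd_prime_pow Nat.prime_two).1 (orderOf_dvd_of_pow_eq_one hk)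
  rcases i with _ | i
  · exact absurd (orderOf_eq_one_iff.1 (by simpa using hi)) h1
  refine ⟨i, ?_⟩
  rw [orderOf_pow' q (Nat.two_pow_pos i).ne', hi, Nat.gcd_eq_right (pow_dvd_pow 2 (Nat.le_succ i)),
    pow_succ, Nat.mul_div_cancel_left _ (Nat.two_pow_pos i)]

/-- The centraliser of a nontrivial `2`-element is a `2`-group. -/
theorem CIT.cent (h : CIT G) {q : G} (h1 : q ≠ 1) {k : ℕ} (hk : q ^ 2 ^ k = 1) :
    IsPGroup 2 (centralizer ({q} : Set G)) := by
  obtain ⟨j, hj⟩ := exists_pow_involution h1 hk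
  exact (h _ hj).to_le fun y hy => mem_cent.2 ((mem_cent.1 hy).pow_right _)

/-- An element of odd order commuting with a nontrivial `2`-element is trivial. -/
theorem CIT.eq_one_of_commute (h : CIT G) {q y : G} (h1 : q ≠ 1) {k : ℕ} (hk : q ^ 2 ^ k = 1)
    (hy : Odd (orderOf y)) (hc : Commute y q) : y = 1 := by
  obtain ⟨i, hi⟩ := h.cent h1 hk ⟨y, mem_cent.2 hc⟩
  obtain ⟨l, -, hl⟩ := (Nat.dvd_prime_pow Nat.prime_two).1
    (orderOf_dvd_of_pow_eq_one (congrArg Subtype.val hi : y ^ 2 ^ i = 1))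
  rcases l with _ | l
  · exact orderOf_eq_one_iff.1 (by simpa using hl)
  · exact absurd hy (Nat.not_odd_iff_even.2 (hl ▸ (even_two.pow_of_ne_zero (Nat.succ_ne_zero l))))

variable [Finite G]

/-- A group of order prime to three involves no symmetric group of degree four. -/
theorem not_involves (h3 : ¬ 3 ∣ Nat.card G) (L : Subgroup G) :
    ¬ Cfsg.Involves (Equiv.Perm (Fin 4)) ↥L := by
  intro hi
  obtain ⟨K, f, hf⟩ := CfsgLib.LocalEven.Involved.exists_hom_of_involves hi
  have h := (Subgroup.card_dvd_of_surjective f hf).trans (card_subgroup_dvd_card K)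
  rw [Nat.card_perm, Nat.card_fin] at h
  exact h3 ((show 3 ∣ Nat.factorial 4 from ⟨8, rfl⟩).trans (h.trans (card_subgroup_dvd_card L)))

section Local

variable [Fact (Nat.Prime 2)] {W : ∀ (Q : Type u) [Group Q], Subgroup Q}
  (h2 : ∀ (Q R : Type u) [Group Q] [Group R] [Finite Q], IsPGroup 2 Q → ∀ φ : Q ≃* R,
    (W Q).map φ.toMonoidHom = W R)
  (h1 : ∀ (Q : Type u) [Group Q] [Finite Q], IsPGroup 2 Q → Nontrivial Q → W Q ≠ ⊥)
  (hn : ∀ (L : Type u) [Group L] [Finite L] (T : Sylow 2 L),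
    Subgroup.centralizer ((Cfsg.pCore 2 L : Subgroup L) : Set L) ≤ Cfsg.pCore 2 L →
    ¬ Cfsg.Involves (Equiv.Perm (Fin 4)) L → (charSub W (T : Subgroup L)).Normal)

include h2 hn in
/-- In a 2-local subgroup the characteristic subgroup of a Sylow 2-subgroup is normal. -/
theorem exists_local (hcit : CIT G) (h3 : ¬ 3 ∣ Nat.card G) {X Y : Subgroup G} (hX : IsPGroup 2 X)
    (hX1 : X ≠ ⊥) (hY : IsPGroup 2 Y) (hYX : Y ≤ normalizer (X : Set G)) :
    ∃ R : Subgroup G, IsPGroup 2 R ∧ Y ≤ R ∧ R ≤ normalizer (X : Set G) ∧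
      normalizer (X : Set G) ≤ normalizer (charSub W R : Set G) := by
  set L : Subgroup G := normalizer (X : Set G) with hL
  obtain ⟨Rs, hRs⟩ := (hY.comap_subtype (K := L)).exists_le_sylow
  refine ⟨(Rs : Subgroup ↥L).map L.subtype, Rs.isPGroup'.map _, fun y hy => ⟨⟨y, hYX hy⟩, hRs hy, rfl⟩,
    map_subtype_le _, ?_⟩
  -- the local subgroup is constrained
  have hcons : centralizer ((Cfsg.pCore 2 ↥L : Subgroup ↥L) : Set ↥L) ≤ Cfsg.pCore 2 ↥L := by
    refine CfsgLib.PCore.le_pCore ?_ ?_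
    · haveI := Cfsg.pCore_normal 2 ↥L
      infer_instance
    · have hXL : X ≤ L := le_normalizer
      haveI : (X.subgroupOf L).Normal := normal_in_normalizer
      have hXc : X.subgroupOf L ≤ Cfsg.pCore 2 ↥L :=
        CfsgLib.PCore.le_pCore inferInstance hX.comap_subtype
      obtain ⟨x, hx, hx1⟩ := X.ne_bot_iff_exists_ne_one.1 hX1 |> fun ⟨a, ha⟩ =>
        (⟨a.1, a.2, fun e => ha (Subtype.ext e)⟩ : ∃ x ∈ X, x ≠ (1 : G))
      obtain ⟨k, hk⟩ := hX ⟨x, hx⟩
      have hc := hcit.cent hx1 (congrArg Subtype.val hk : x ^ 2 ^ k = 1)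
      refine (hc.comap_subtype (K := L)).to_le fun y hy => ?_
      show (y : G) ∈ centralizer ({x} : Set G)
      rw [mem_cent]
      exact (congrArg Subtype.val (mem_centralizer_iff.1 hy ⟨x, hXL hx⟩ (hXc hx))).symm
  haveI := hn ↥L Rs hcons (not_involves h3 L)
  have hmap := charSub_map (W := W) (p := 2) h2 Rs.isPGroup'
    (L.subtype.comp (Rs : Subgroup ↥L).subtype)
    (L.subtype_injective.comp (Rs : Subgroup ↥L).subtype_injective)
  rw [← Subgroup.map_map, Subgroup.subgroupOf_map_subtype, inf_of_le_left (charSub_le _),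
    MonoidHom.range_comp, Subgroup.range_subtype] at hmap
  rw [← hmap]
  calc L = (⊤ : Subgroup ↥L).map L.subtype := by rw [← MonoidHom.range_eq_map, range_subtype]
    _ ≤ (normalizer ((charSub W (Rs : Subgroup ↥L) : Subgroup ↥L) : Set ↥L)).map L.subtype :=
        map_mono (normalizer_eq_top (H := charSub W (Rs : Subgroup ↥L))).ge
    _ ≤ _ := le_normalizer_map L.subtype

include h1 h2 hn in
/-- The normaliser of the characteristic subgroup contains the normalisers of its 2-subgroups. -/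
theorem normalizer_le (hcit : CIT G) (h3 : ¬ 3 ∣ Nat.card G) (T : Sylow 2 G) :
    ∀ X : Subgroup G, X ≤ normalizer (charSub W (T : Subgroup G) : Set G) → IsPGroup 2 X → X ≠ ⊥ →
      normalizer (X : Set G) ≤ normalizer (charSub W (T : Subgroup G) : Set G) := by
  set M : Subgroup G := normalizer (charSub W (T : Subgroup G) : Set G) with hM
  have hTM : (T : Subgroup G) ≤ M := (le_normalizer).trans (charSub_le_normalizer h2 T.isPGroup')
  suffices key : ∀ d : ℕ, ∀ R : Subgroup G, R ≤ M → IsPGroup 2 R → R ≠ ⊥ →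
      Nat.card G - Nat.card R ≤ d →
      normalizer (R : Set G) ≤ M ∧ normalizer (charSub W R : Set G) ≤ M from
    fun X hXM hX hX1 => (key _ X hXM hX hX1 le_rfl).1
  intro d
  induction d using Nat.strong_induction_on with
  | _ d ih =>
    intro R hRM hR hR1 hd
    have up : ∀ Y : Subgroup G, Y ≤ M → IsPGroup 2 Y → Nat.card R < Nat.card Y →
        normalizer (Y : Set G) ≤ M ∧ normalizer (charSub W Y : Set G) ≤ M := by
      intro Y hYM hY hlt
      refine ih (Nat.card G - Nat.card Y) ?_ Y hYM hY (fun e => ?_) le_rfl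
      · have := Nat.le_of_dvd Nat.card_pos (card_subgroup_dvd_card Y)
        omega
      · rw [e, card_bot] at hlt
        have := Nat.card_pos (α := R)
        omega
    -- a Sylow subgroup of `M` containing `R`
    obtain ⟨Q, hQ⟩ := (hR.comap_subtype (K := M)).exists_le_sylow
    obtain ⟨m, hm⟩ := MulAction.exists_smul_eq ↥M (T.subtype hTM) Q
    set Tm : Subgroup G := (Q : Subgroup ↥M).map M.subtype with hTm
    have hTmM : Tm ≤ M := map_subtype_le _
    have hTm2 : IsPGroup 2 Tm := Q.isPGroup'.map _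
    have hRT : R ≤ Tm := fun r hr => ⟨⟨r, hRM hr⟩, hQ hr, rfl⟩
    have hTmconj : Tm = (T : Subgroup G).map (MulAut.conj (m : G)).toMonoidHom := by
      rw [hTm, ← hm, Sylow.coe_subgroup_smul, Subgroup.pointwise_smul_def, Sylow.coe_subtype]
      ext y
      constructor
      · rintro ⟨_, ⟨x, hx, rfl⟩, rfl⟩
        exact ⟨(x : G), hx, rfl⟩
      · rintro ⟨x, hx, rfl⟩
        exact ⟨_, ⟨⟨x, hTM hx⟩, hx, rfl⟩, rfl⟩
    have hTW : normalizer (charSub W Tm : Set G) ≤ M := by
      have hf : Function.Injective ((MulAut.conj (m : G)).toMonoidHom.comp (T : Subgroup G).subtype) :=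
        (MulAut.conj (m : G)).injective.comp (T : Subgroup G).subtype_injective
      have h := charSub_map (W := W) (p := 2) h2 T.isPGroup' _ hf
      rw [← Subgroup.map_map, Subgroup.subgroupOf_map_subtype, inf_of_le_left (charSub_le _),
        MonoidHom.range_comp, Subgroup.range_subtype, ← hTmconj] at h
      rw [← h]
      intro g hg
      have hg' : (m : G)⁻¹ * g * m ∈ M := by
        refine mem_normalizer_iff.2 fun x => ?_
        have := (mem_normalizer_iff.1 hg) ((MulAut.conj (m : G)).toMonoidHom x)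
        rw [mem_map_iff_mem (MulAut.conj (m : G)).injective] at this
        rw [this]
        conv_rhs => rw [← mem_map_iff_mem (f := (MulAut.conj (m : G)).toMonoidHom)
          (MulAut.conj (m : G)).injective]
        refine iff_of_eq (congrArg (· ∈ _) ?_)
        simp [mul_assoc]
      have := mul_mem (mul_mem m.2 hg') (inv_mem m.2)
      simpa [mul_assoc] using this
    by_cases hRTm : R = Tm
    · subst hRTm
      exact ⟨(charSub_le_normalizer h2 hR).trans hTW, hTW⟩
    obtain ⟨y, hyT, hyR, hyN⟩ :=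
      CfsgLib.Involutions.exists_mem_normalizer_notMem hTm2 (lt_of_le_of_ne hRT hRTm)
    -- the larger subgroup
    set Y : Subgroup G := Tm ⊓ normalizer (R : Set G) with hY
    have hY2 : IsPGroup 2 Y := hTm2.to_le inf_le_left
    have hRY : R < Y := lt_of_le_of_ne (le_inf hRT le_normalizer) fun e => hyR (e ▸ ⟨hyT, hyN⟩)
    have hRYc : Nat.card R < Nat.card Y := by
      refine lt_of_le_of_ne (card_le_of_le hRY.le) fun e => hRY.ne ?_
      exact eq_of_le_of_card_ge hRY.le e.ge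
    have hYM : Y ≤ M := inf_le_left.trans hTmM
    -- Sylow subgroups of the two local subgroups lie in `M`
    have inM : ∀ U : Subgroup G, IsPGroup 2 U → Y ≤ U → U ≤ M := by
      intro U hU hYU
      by_contra hUM
      have hlt : U ⊓ M < U := lt_of_le_of_ne inf_le_left fun e => hUM (e ▸ inf_le_right)
      obtain ⟨z, hzU, hzUM, hzN⟩ := CfsgLib.Involutions.exists_mem_normalizer_notMem hU hlt
      refine hzUM ⟨hzU, (up (U ⊓ M) inf_le_right (hU.to_le inf_le_left) ?_).1 hzN⟩
      exact lt_of_lt_of_le hRYc (card_le_of_le (le_inf hYU hYM))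
    have hcl : ∀ X : Subgroup G, IsPGroup 2 X → X ≠ ⊥ → Y ≤ normalizer (X : Set G) →
        normalizer (X : Set G) ≤ M := by
      intro X hX hX1 hYX
      obtain ⟨U, hU, hYU, -, hLU⟩ := exists_local h2 hn hcit h3 hX hX1 hY2 hYX
      exact hLU.trans (up U (inM U hU hYU) hU (lt_of_lt_of_le hRYc (card_le_of_le hYU))).2
    refine ⟨hcl R hR hR1 inf_le_right, ?_⟩
    exact hcl _ (hR.to_le (charSub_le R)) (charSub_ne_bot h1 hR hR1)
      (inf_le_right.trans (charSub_le_normalizer h2 hR))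

end Local

/-- In a group of odd-order-free, 2-core-free type: the Sylow 2-subgroup gives a `Setup`. -/
theorem exists_setup (hcit : CIT G) (h3 : ¬ 3 ∣ Nat.card G) (heven : 2 ∣ Nat.card G)
    (hOdd : ∀ N : Subgroup G, N.Normal → Odd (Nat.card N) → N = ⊥)
    (hTwo : ∀ N : Subgroup G, N.Normal → IsPGroup 2 N → N = ⊥) :
    Nonempty (Setup G) := by
  haveI : Fact (Nat.Prime 2) := ⟨Nat.prime_two⟩
  obtain ⟨W, h1, h2, hn⟩ := CfsgLib.SFour.twoFunctor_all.{u}
  obtain ⟨T⟩ : Nonempty (Sylow 2 G) := inferInstance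
  have hT1 : (T : Subgroup G) ≠ ⊥ := T.ne_bot_of_dvd_card heven
  set Wt : Subgroup G := charSub W (T : Subgroup G) with hWt
  set M : Subgroup G := normalizer (Wt : Set G) with hM
  have hW1 : Wt ≠ ⊥ := charSub_ne_bot h1 T.isPGroup' hT1
  have hW2 : IsPGroup 2 Wt := T.isPGroup'.to_le (charSub_le _)
  have hTN : normalizer ((T : Subgroup G) : Set G) ≤ M := charSub_le_normalizer h2 T.isPGroup'
  have hTM : (T : Subgroup G) ≤ M := le_normalizer.trans hTN
  have hWM : Wt ≤ M := le_normalizer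
  have hne : M ≠ ⊤ := fun e => hW1 (hTwo Wt (normalizer_eq_top_iff.1 e) hW2)
  have heM : Even (Nat.card M) := even_iff_two_dvd.2
    ((T.dvd_card_of_dvd_card heven).trans (card_dvd_of_le hTM))
  have hse : Cfsg.IsStronglyEmbedded M := CfsgLib.Involutions.isStronglyEmbedded_of_normalizers hne
    heM fun X hXM hX hX1 => normalizer_le h2 h1 hn hcit h3 T X hXM hX hX1
  -- all involutions of `M` lie in the core of `M`
  set Q : Subgroup ↥M := Cfsg.pCore 2 ↥M with hQ
  haveI hQn : Q.Normal := Cfsg.pCore_normal 2 ↥M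
  have hQ2 : IsPGroup 2 Q := CfsgLib.PCore.pCore_isPGroup
  haveI : (Wt.subgroupOf M).Normal := normal_in_normalizer
  have hWQ : Wt.subgroupOf M ≤ Q := CfsgLib.PCore.le_pCore inferInstance hW2.comap_subtype
  obtain ⟨w, hw, hw2⟩ : ∃ w ∈ Wt, orderOf w = 2 := by
    obtain ⟨a, ha⟩ := Wt.ne_bot_iff_exists_ne_one.1 hW1
    obtain ⟨k, hk⟩ := hW2 a
    obtain ⟨j, hj⟩ := exists_pow_involution (G := G) (q := a.1) (fun e => ha (Subtype.ext e))
      (congrArg Subtype.val hk)
    exact ⟨_, pow_mem a.2 _, hj⟩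
  have hinv : ∀ t : ↥M, orderOf t = 2 → t ∈ Q := by
    intro t ht
    have ht' : orderOf (t : G) = 2 := by rwa [orderOf_coe]
    obtain ⟨g, hg⟩ := isConj_iff.1 (CfsgLib.StrongEmbedding.isConj_involutions hse hw2 ht')
    have hgM : g⁻¹ ∈ M := CfsgLib.Involutions.se_mem_of_conj_mem hse (hWM hw) hw2 (by
      rw [inv_inv, hg]; exact t.2)
    have e : (⟨g, by simpa using inv_mem hgM⟩ : ↥M) * ⟨w, hWM hw⟩ * ⟨g, by simpa using inv_mem hgM⟩⁻¹ = t :=
      Subtype.ext hg
    rw [← e]
    exact hQn.conj_mem _ (hWQ (show (⟨w, hWM hw⟩ : ↥M) ∈ Wt.subgroupOf M from hw)) _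
  -- the Sylow subgroup is the core of `M`
  have hTQ : (T : Subgroup G).subgroupOf M ≤ Q := by
    intro x hx
    by_contra hxQ
    let π := QuotientGroup.mk' Q
    obtain ⟨k, hk⟩ := T.isPGroup' ⟨(x : G), hx⟩
    have hx2 : π x ^ 2 ^ k = 1 := by
      rw [← map_pow, show x ^ 2 ^ k = 1 from Subtype.ext (congrArg Subtype.val hk : (x : G) ^ 2 ^ k = 1),
        map_one]
    obtain ⟨j, hj⟩ := exists_pow_involution (G := ↥M ⧸ Q) (q := π x)
      (fun e => hxQ ((QuotientGroup.eq_one_iff x).1 e)) hx2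
    rw [← map_pow] at hj
    set a : ↥M := x ^ 2 ^ j with ha
    have ha2 : π a * π a = 1 := by rw [← pow_two, ← hj]; exact pow_orderOf_eq_one _
    have hacore : π a ∉ Cfsg.pCore 2 (↥M ⧸ Q) := by
      intro e
      have hb : Cfsg.pCore 2 (↥M ⧸ Q) = ⊥ := CfsgLib.PCore.pCore_quotient_pCore
      rw [hb, mem_bot] at e
      rw [e, orderOf_one] at hj
      omega
    obtain ⟨g, l, hlo, hl1, hlinv⟩ := CfsgLib.Techniques.JeTwo.exists_inverted ha2 hacore
    obtain ⟨y0, hy0⟩ := QuotientGroup.mk'_surjective Q ((π a * (g * π a * g⁻¹)) ^ 2 ^ l)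
    rw [← hy0] at hlo hl1 hlinv
    -- an odd lift
    obtain ⟨s, m, hm, hs⟩ := Nat.exists_eq_two_pow_mul_odd (orderOf_pos y0).ne'
    set y : ↥M := y0 ^ 2 ^ s with hy
    have hyo : Odd (orderOf y) := by
      rw [hy, orderOf_pow, hs, Nat.gcd_mul_right_left, Nat.mul_div_cancel_left _ (Nat.two_pow_pos s)]
      exact hm
    have hπy : π y ≠ 1 := by
      rw [hy, map_pow]
      intro e
      refine hl1 (orderOf_eq_one_iff.1 (Nat.eq_one_of_dvd_coprimes ?_ dvd_rfl
        (orderOf_dvd_of_pow_eq_one e)))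
      exact Nat.Coprime.pow_right s (Nat.coprime_two_right.2 hlo)
    have hy1 : y ≠ 1 := fun e => hπy (by rw [e, map_one])
    have hinvy : π (a * y * a⁻¹) = (π y)⁻¹ := by
      rw [map_mul, map_mul, map_inv, hy, map_pow π y0, ← conj_pow, hlinv, inv_pow]
    have hq2 : ∀ q ∈ Q, ∃ k : ℕ, (q : G) ^ 2 ^ k = 1 := fun q hq => by
      obtain ⟨k, hk⟩ := hQ2 ⟨q, hq⟩
      exact ⟨k, by simpa using congrArg (fun z : Q => ((z : ↥M) : G)) hk⟩
    -- the odd elements of the coset are conjugate under the core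
    have hfQ : ∀ q : Q, (q : ↥M) * y⁻¹ * (q : ↥M)⁻¹ * y ∈ Q := fun q => by
      have := hQn.conj_mem _ (inv_mem q.2) y⁻¹
      simpa [mul_assoc] using mul_mem q.2 this
    let f : Q → Q := fun q => ⟨(q : ↥M) * y⁻¹ * (q : ↥M)⁻¹ * y, hfQ q⟩
    have hf : Function.Injective f := by
      intro q q' e
      have e' : (q : ↥M) * y⁻¹ * (q : ↥M)⁻¹ * y = (q' : ↥M) * y⁻¹ * (q' : ↥M)⁻¹ * y :=
        congrArg Subtype.val e
      have e'' := mul_right_cancel e'
      have hc : Commute y ((q' : ↥M)⁻¹ * q) := by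
        have h : ((q' : ↥M)⁻¹ * q) * y⁻¹ = y⁻¹ * ((q' : ↥M)⁻¹ * q) := by
          calc ((q' : ↥M)⁻¹ * q) * y⁻¹ = (q' : ↥M)⁻¹ * ((q : ↥M) * y⁻¹ * (q : ↥M)⁻¹) * q := by group
            _ = _ := by rw [e'']; group
        exact Commute.inv_left_iff.1 (Commute.symm h)
      by_contra hne
      obtain ⟨k, hk⟩ := hq2 _ (mul_mem (inv_mem q'.2) q.2)
      refine hy1 (Subtype.ext (hcit.eq_one_of_commute (q := (((q' : ↥M)⁻¹ * q : ↥M) : G)) ?_ hk
        (by rwa [orderOf_coe]) (hc.map M.subtype)))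
      intro e3
      exact hne (Subtype.ext (inv_mul_eq_one.1 (Subtype.ext e3)).symm)
    have hdQ : a * y * a⁻¹ * y ∈ Q := by
      rw [← QuotientGroup.eq_one_iff, ← QuotientGroup.mk'_apply]
      show π _ = 1
      rw [map_mul, hinvy, inv_mul_cancel]
    obtain ⟨q, hq⟩ := Finite.injective_iff_surjective.1 hf ⟨_, hdQ⟩
    have hq' : (q : ↥M) * y⁻¹ * (q : ↥M)⁻¹ = a * y * a⁻¹ := mul_right_cancel (congrArg Subtype.val hq)
    set b : ↥M := (q : ↥M)⁻¹ * a with hb
    have hby : b * y * b⁻¹ = y⁻¹ := by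
      calc b * y * b⁻¹ = (q : ↥M)⁻¹ * (a * y * a⁻¹) * q := by rw [hb]; group
        _ = y⁻¹ := by rw [← hq']; group
    -- the 2-part of the inverting element
    obtain ⟨s', m', hm', hs'⟩ := Nat.exists_eq_two_pow_mul_odd (orderOf_pos b).ne'
    have hpow : ∀ n : ℕ, (Even n → b ^ n * y * (b ^ n)⁻¹ = y) ∧ (Odd n → b ^ n * y * (b ^ n)⁻¹ = y⁻¹) := by
      intro n
      induction n with
      | zero => simp
      | succ n ihn =>
        have e : b ^ (n + 1) * y * (b ^ (n + 1))⁻¹ = b * (b ^ n * y * (b ^ n)⁻¹) * b⁻¹ := by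
          rw [pow_succ']; group
        refine ⟨fun he => ?_, fun ho => ?_⟩
        · rw [e, ihn.2 (Nat.even_add_one.1 he |> Nat.not_even_iff_odd.1),
            show b * y⁻¹ * b⁻¹ = (b * y * b⁻¹)⁻¹ by group, hby, inv_inv]
        · rw [e, ihn.1 (by simpa [Nat.odd_add_one] using ho), hby]
    set c : ↥M := b ^ m' with hc
    have hcy : c * y * c⁻¹ = y⁻¹ := (hpow m').2 hm'
    have hc2 : c ^ 2 ^ s' = 1 := by rw [hc, ← pow_mul, mul_comm, ← hs', pow_orderOf_eq_one]
    have hy2 : y⁻¹ ≠ y := fun e => hy1 (orderOf_eq_one_iff.1 (Nat.eq_one_of_dvd_coprimes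
      (Nat.coprime_two_right.2 hyo) dvd_rfl (orderOf_dvd_of_pow_eq_one (show y ^ 2 = 1 by
        rw [pow_two]; nth_rewrite 1 [← e]; exact inv_mul_cancel y))))
    have hcsq : c * c = 1 := by
      by_contra hcc
      have hcomm : Commute y (c * c) := by
        have h : c * c * y * (c * c)⁻¹ = y := by
          have e : c * c = b ^ (m' + m') := by rw [hc, ← pow_add]
          rw [e]
          exact (hpow (m' + m')).1 ⟨m', rfl⟩
        exact (mul_inv_eq_iff_eq_mul.1 h).symm
      exact hy1 (Subtype.ext (hcit.eq_one_of_commute (q := ((c * c : ↥M) : G))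
        (fun e => hcc (Subtype.ext e)) (k := s')
        (by rw [← SubmonoidClass.coe_pow, ← pow_two, ← pow_mul, mul_comm, pow_mul, hc2, one_pow,
          OneMemClass.coe_one])
        (by rwa [orderOf_coe]) (hcomm.map M.subtype)))
    have hc1 : c ≠ 1 := fun e => hy2 (by rw [← hcy, e]; group)
    have hcQ := hinv c (CfsgLib.Involutions.orderOf_eq_two_iff_mul.2 ⟨hc1, hcsq⟩)
    refine hπy (orderOf_eq_one_iff.1 (Nat.eq_one_of_dvd_coprimes
      ((Nat.coprime_two_right.2 hyo).coprime_dvd_left (orderOf_map_dvd π y)) dvd_rfl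
      (orderOf_dvd_of_pow_eq_one ?_)))
    have hπc : π c = 1 := (QuotientGroup.eq_one_iff c).2 hcQ
    have e := congrArg π hcy
    rw [map_mul, map_mul, map_inv, map_inv, hπc, one_mul, inv_one, mul_one] at e
    rw [pow_two]
    nth_rewrite 2 [e]
    exact mul_inv_cancel _
  -- hence `M` normalises the Sylow subgroup
  have hQT : Q = (T : Subgroup G).subgroupOf M := by
    refine le_antisymm ?_ hTQ
    have := CfsgLib.PCore.pCore_le_sylow (T.subtype hTM)
    rwa [Sylow.coe_subtype] at this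
  haveI : ((T : Subgroup G).subgroupOf M).Normal := hQT ▸ hQn
  have hMT : M = normalizer ((T : Subgroup G) : Set G) :=
    le_antisymm ((normal_subgroupOf_iff_le_normalizer hTM).1 inferInstance) hTN
  have hcent : ∀ y ∈ (T : Subgroup G), y ≠ 1 → centralizer ({y} : Set G) ≤ T := by
    intro y hy hy1
    obtain ⟨k, hk⟩ := T.isPGroup' ⟨y, hy⟩
    obtain ⟨j, hj⟩ := exists_pow_involution hy1 (congrArg Subtype.val hk : y ^ 2 ^ k = 1)
    intro c hc
    have hc' : c ∈ centralizer ({y ^ 2 ^ j} : Set G) := mem_cent.2 ((mem_cent.1 hc).pow_right _)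
    have hcM : c ∈ M := CfsgLib.Involutions.se_centralizer_le hse (hTM (pow_mem hy _)) hj hc'
    have hC : IsPGroup 2 (centralizer ({y ^ 2 ^ j} : Set G) ⊓ M : Subgroup G) :=
      (hcit _ hj).to_le inf_le_left
    obtain ⟨S', hS'⟩ := (hC.comap_subtype (K := M)).exists_le_sylow
    haveI : Subsingleton (Sylow 2 ↥M) := @Unique.instSubsingleton _ (Sylow.unique_of_normal (T.subtype hTM)
      (by rw [Sylow.coe_subtype]; infer_instance))
    have := hS' (show (⟨c, hcM⟩ : ↥M) ∈ (centralizer ({y ^ 2 ^ j} : Set G) ⊓ M).subgroupOf M from ⟨hc', hcM⟩)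
    rw [Subsingleton.elim S' (T.subtype hTM)] at this
    exact this
  obtain ⟨zc, hzc⟩ : ∃ zc : Subgroup.center ↥(T : Subgroup G), zc ≠ 1 := by
    haveI : Nontrivial ↥(T : Subgroup G) := (nontrivial_iff_ne_bot _).2 hT1
    haveI := T.isPGroup'.center_nontrivial
    exact exists_ne 1
  obtain ⟨kz, hkz⟩ := T.isPGroup' zc.1
  obtain ⟨jz, hjz⟩ := exists_pow_involution (G := G) (q := zc.1.1)
    (fun e => hzc (Subtype.ext (Subtype.ext e))) (congrArg Subtype.val hkz)
  set z : G := zc.1.1 ^ 2 ^ jz with hz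
  have hzT : z ∈ (T : Subgroup G) := pow_mem zc.1.2 _
  have hzcen : ∀ y ∈ (T : Subgroup G), Commute y z := fun y hy =>
    Commute.pow_right (congrArg Subtype.val (mem_center_iff.1 zc.2 ⟨y, hy⟩)) _
  refine ⟨{ P := T, z := z, hz := hjz, z_mem := hzT, se := hMT ▸ hse, cent_le' := hcent,
            central := ?_, noOdd := hOdd, noTwo := hTwo }⟩
  intro t ht ht2 y hy
  obtain ⟨g, hg⟩ := isConj_iff.1 (CfsgLib.StrongEmbedding.isConj_involutions hse hjz ht2)
  have hgM : g⁻¹ ∈ M := CfsgLib.Involutions.se_mem_of_conj_mem hse (hTM hzT) hjz (by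
    rw [inv_inv, hg]; exact hTM ht)
  have hy' : g⁻¹ * y * g ∈ (T : Subgroup G) := by
    have := ((mem_normalizer_iff.1 (hMT ▸ hgM)) y).1 hy
    simpa using this
  have := (hzcen _ hy').map (MulAut.conj g).toMonoidHom
  simpa [mul_assoc, ← hg] using this

end CfsgLib.CITThree
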