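import Cfsg.Agent.Lib.CITThree.Count
import Cfsg.Agent.Lib.CITThree.Normalizer
import Cfsg.Agent.Lib.Suzuki.Recognition.Zassenhaus
import Cfsg.Agent.Lib.PSL2.Basic
import Cfsg.Agent.S0338
import Cfsg.Agent.S0731

/-!
# Groups of order prime to three whose involution centralisers are 2-groups

Without normal subgroups of odd order and normal 2-subgroups these are the Suzuki groups.
-/

set_option autoImplicit false
set_option linter.style.haveILetI false

namespace CfsgLib.CITThree

open Subgroup MulAction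

universe u

/-- Three divides the order of a two-dimensional projective special linear group. -/
theorem three_dvd_psl {F : Type*} [Field F] [Fintype F] :
    3 ∣ Nat.card (Matrix.ProjectiveSpecialLinearGroup (Fin 2) F) := by
  classical
  have h := CfsgLib.PSL2.card_psl (F := F)
  obtain ⟨q, hq⟩ : ∃ q, Fintype.card F = q + 1 := ⟨Fintype.card F - 1, by
    have := Fintype.card_pos (α := F); omega⟩
  rw [hq, Nat.add_sub_cancel] at h
  have h3 : 3 ∣ (q + 1 + 1) * ((q + 1) * q) := by
    have : (q + 1 + 1) * ((q + 1) * q) = q * (q + 1) * (q + 2) := by ring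
    rw [this]
    apply Nat.dvd_of_mod_eq_zero
    rw [Nat.mul_mod, Nat.mul_mod q, Nat.add_mod q 1, Nat.add_mod q 2]
    have := Nat.mod_lt q (by norm_num : 3 > 0)
    interval_cases (q % 3) <;> simp
  rw [← h] at h3
  refine ((Nat.prime_three).dvd_mul.1 h3).resolve_left fun h' => ?_
  have := Nat.le_of_dvd (Nat.gcd_pos_of_pos_left _ (by norm_num))
    h'
  have h2 := Nat.le_of_dvd (by norm_num) (Nat.gcd_dvd_left 2 q)
  omega

/-- A group of order prime to three whose involution centralisers are 2-groups, without normal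
subgroups of odd order or normal 2-subgroups, is a Suzuki group. -/
theorem isoSuzuki {G : Type u} [Group G] [Finite G] (hcit : CIT G) (h3 : ¬ 3 ∣ Nat.card G)
    (heven : 2 ∣ Nat.card G)
    (hOdd : ∀ N : Subgroup G, N.Normal → Odd (Nat.card N) → N = ⊥)
    (hTwo : ∀ N : Subgroup G, N.Normal → IsPGroup 2 N → N = ⊥) :
    Cfsg.Lie.IsoSuzuki G := by
  classical
  obtain ⟨S⟩ := exists_setup hcit h3 heven hOdd hTwo
  obtain ⟨u, hu, huM⟩ := CfsgLib.StrongEmbedding.exists_involution_notMem S.se'
  obtain ⟨hZ, hodd⟩ := S.zassenhaus hu huM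
  obtain ⟨hcard, hreg⟩ := S.regular hu huM
  haveI : Fintype (G ⧸ S.M) := Fintype.ofFinite _
  rw [Nat.card_eq_fintype_card] at hodd
  haveI : IsSimpleGroup G := Cfsg.Agent.S0338.result hZ hodd
  set a : G ⧸ S.M := ((1 : G) : G ⧸ S.M) with ha
  have hfixa : stabilizer G a = S.M := stabilizer_quotient S.M
  have hle : S.H ≤ stabilizer G a := by rw [hfixa]; exact S.H_le_M
  refine CfsgLib.Suzuki.Recognition.isoSuzuki_of_regular hZ a S.H hle S.P.isPGroup' ?_
    (fun y z hy hz => hreg y z hy hz)
  by_contra hab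
  push Not at hab
  have hnorm : (S.H.subgroupOf (stabilizer G a)).Normal := by
    rw [hfixa]; exact normal_in_normalizer
  rcases Cfsg.Agent.S0731.result hZ a S.H hle hnorm ⟨⟨hab⟩⟩ (fun y z hy hz => hreg y z hy hz) with
    ⟨h3t, hfree⟩ | ⟨K, iK, fK, -, ⟨e⟩⟩
  · refine h3 ?_
    have hN : 3 ≤ Fintype.card (G ⧸ S.M) := by
      rw [← Nat.card_eq_fintype_card, ← index_eq_card, hcard]
      have := Nat.le_of_dvd Nat.card_pos (S.hz ▸ Subgroup.orderOf_dvd_natCard S.H S.z_mem)
      omega
    haveI : Nonempty (Fin 3 ↪ (G ⧸ S.M)) :=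
      Function.Embedding.nonempty_of_card_le (by rw [Fintype.card_fin]; exact hN)
    obtain ⟨t⟩ := ‹Nonempty (Fin 3 ↪ (G ⧸ S.M))›
    haveI : IsPretransitive G (Fin 3 ↪ (G ⧸ S.M)) := h3t
    have hc := Nat.card_congr (orbitProdStabilizerEquivGroup G t)
    rw [Nat.card_prod, hfree t, card_bot, mul_one, orbit_eq_univ, Nat.card_congr (Equiv.Set.univ _),
      Nat.card_eq_fintype_card, Fintype.card_embedding_eq, Fintype.card_fin] at hc
    rw [← hc]
    exact (show 3 ∣ Nat.factorial 3 from ⟨2, rfl⟩).trans (Nat.factorial_dvd_descFactorial _ 3)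
  · exact h3 (Nat.card_congr e.toEquiv ▸ three_dvd_psl)

end CfsgLib.CITThree
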