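import Cfsg.Agent.Lib.CITThree.Main
import Cfsg.Agent.Lib.Tech46.CoprimeGen
import Cfsg.Agent.Lib.Structure81.FPFPGroup
import Mathlib.GroupTheory.SpecificGroups.ZGroup

/-!
# Non-solvable groups of order prime to three with an isolated prime two

Modulo the largest normal 2-subgroup such a group is a Suzuki group.
-/

set_option autoImplicit false
set_option linter.style.haveILetI false

namespace CfsgLib.CITThree

open Subgroup

universe u

variable {G : Type u} [Group G] [Finite G]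

theorem cit_of_isolated (h2 : ∀ r : ℕ, r.Prime → r ≠ 2 → ∀ x : G, orderOf x ≠ 2 * r) : CIT G := by
  haveI : Fact (Nat.Prime 2) := ⟨Nat.prime_two⟩
  intro t ht
  rw [IsPGroup.iff_card]
  refine ⟨_, Nat.eq_prime_pow_of_unique_prime_dvd Nat.card_pos.ne' fun {r} hr hrd => ?_⟩
  by_contra hr2
  haveI : Fact r.Prime := ⟨hr⟩
  obtain ⟨⟨c, hc⟩, hco⟩ := exists_prime_orderOf_dvd_card' (G := ↥(centralizer ({t} : Set G))) r hrd
  rw [orderOf_mk] at hco
  refine h2 r hr hr2 (t * c) ?_
  rw [(Commute.symm (mem_cent.1 hc)).orderOf_mul_eq_mul_orderOf_of_coprime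
    (by rw [ht, hco]; exact (Nat.coprime_primes Nat.prime_two hr).2 (Ne.symm hr2)), ht, hco]

/-- The hypothesis passes to the quotient by a normal 2-subgroup. -/
theorem CIT.quotient (h : CIT G) {R : Subgroup G} [R.Normal] (hR : IsPGroup 2 R) : CIT (G ⧸ R) := by
  haveI : Fact (Nat.Prime 2) := ⟨Nat.prime_two⟩
  intro t ht
  rw [IsPGroup.iff_card]
  refine ⟨_, Nat.eq_prime_pow_of_unique_prime_dvd Nat.card_pos.ne' fun {r} hr hrd => ?_⟩
  by_contra hr2
  haveI : Fact r.Prime := ⟨hr⟩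
  obtain ⟨⟨c, hc⟩, hco⟩ := exists_prime_orderOf_dvd_card' (G := ↥(centralizer ({t} : Set (G ⧸ R)))) r hrd
  rw [orderOf_mk] at hco
  obtain ⟨c0, rfl⟩ := QuotientGroup.mk'_surjective R c
  obtain ⟨t0, rfl⟩ := QuotientGroup.mk'_surjective R t
  -- a lift of `c` of `r`-power order
  obtain ⟨a, m, hm, hs⟩ := Nat.exists_eq_pow_mul_and_not_dvd (orderOf_pos c0).ne' r hr.ne_one
  set y : G := c0 ^ m with hy
  have hyr : y ^ r ^ a = 1 := by rw [hy, ← pow_mul, mul_comm, ← hs, pow_orderOf_eq_one]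
  have hy1 : y ∉ R := fun hmem => hm (by
    rw [← hco]
    refine orderOf_dvd_of_pow_eq_one ?_
    rw [← map_pow]
    exact (QuotientGroup.eq_one_iff _).2 hmem)
  -- a lift of `t` of 2-power order
  obtain ⟨b, n, hn, hs'⟩ := Nat.exists_eq_two_pow_mul_odd (orderOf_pos t0).ne'
  set s : G := t0 ^ n with hsdef
  have hs2 : s ^ 2 ^ b = 1 := by rw [hsdef, ← pow_mul, mul_comm, ← hs', pow_orderOf_eq_one]
  have hsR : s ∉ R := fun hmem => by
    have h1 : orderOf (QuotientGroup.mk' R t0) ∣ n := orderOf_dvd_of_pow_eq_one (by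
      rw [← map_pow]; exact (QuotientGroup.eq_one_iff _).2 hmem)
    rw [ht] at h1
    exact Nat.not_even_iff_odd.2 hn (even_iff_two_dvd.2 h1)
  have hcomm : ∀ g ∈ zpowers y, s⁻¹ * (g * s * g⁻¹) ∈ R := by
    intro g hg
    rw [← QuotientGroup.eq_one_iff, ← QuotientGroup.mk'_apply]
    have hc' : Commute (QuotientGroup.mk' R g) (QuotientGroup.mk' R s) := by
      obtain ⟨i, rfl⟩ := mem_zpowers_iff.1 hg
      rw [map_zpow, hy, hsdef, map_pow, map_pow]
      exact ((mem_cent.1 hc).pow_pow m n).zpow_left i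
    rw [map_mul, map_inv, map_mul, map_mul, map_inv, hc'.eq, mul_inv_cancel_right, inv_mul_cancel]
  have hA : IsPGroup r ↥(zpowers y) := by
    rintro ⟨g, hg⟩
    obtain ⟨i, rfl⟩ := mem_zpowers_iff.1 hg
    refine ⟨a, Subtype.ext ?_⟩
    show (y ^ i) ^ r ^ a = 1
    rw [← zpow_natCast, ← zpow_mul, mul_comm, zpow_mul, zpow_natCast, hyr, one_zpow]
  have hRr : ¬ r ∣ Nat.card R := by
    obtain ⟨k, hk⟩ := hR.exists_card_eq
    rw [hk]
    exact fun hd => hr2 ((Nat.prime_dvd_prime_iff_eq hr Nat.prime_two).1 (hr.dvd_of_dvd_pow hd))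
  obtain ⟨w, hw, hcw⟩ := CfsgLib.Tech46.exists_fixed_in_coset hA hRr
    (by rw [normalizer_eq_top]; exact le_top) hcomm
  have hq2 : ∃ k : ℕ, (s * w) ^ 2 ^ k = 1 := by
    have h1 : (s * w) ^ 2 ^ b ∈ R := by
      rw [← QuotientGroup.eq_one_iff, ← QuotientGroup.mk'_apply, map_pow, map_mul,
        show QuotientGroup.mk' R w = 1 from (QuotientGroup.eq_one_iff w).2 hw, mul_one, ← map_pow,
        hs2, map_one]
    obtain ⟨k, hk⟩ := hR ⟨_, h1⟩
    refine ⟨b + k, ?_⟩
    rw [pow_add, pow_mul]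
    exact congrArg Subtype.val hk
  obtain ⟨k, hk⟩ := hq2
  have hyo : Odd (orderOf y) := by
    refine Odd.of_dvd_nat ((hr.odd_of_ne_two hr2).pow) (orderOf_dvd_of_pow_eq_one hyr)
  have := h.eq_one_of_commute (q := s * w) (fun e => hsR (by
    rw [eq_inv_of_mul_eq_one_left e]; exact inv_mem hw)) hk hyo
    (mem_centralizer_iff.1 hcw y (mem_zpowers y)).symm.symm
  exact hy1 (this ▸ one_mem R)

/-- A non-solvable group of this kind has no nontrivial normal subgroup of odd order. -/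
theorem CIT.noOdd (h : CIT G) (hns : ¬ Group.IsSolvable G) (heven : 2 ∣ Nat.card G) :
    ∀ N : Subgroup G, N.Normal → Odd (Nat.card N) → N = ⊥ := by
  haveI : Fact (Nat.Prime 2) := ⟨Nat.prime_two⟩
  intro N hN hodd
  by_contra hne
  obtain ⟨t, ht⟩ := exists_prime_orderOf_dvd_card' (G := G) 2 heven
  have htt : t * t = 1 := by rw [← pow_two, ← ht]; exact pow_orderOf_eq_one t
  have htinv : t⁻¹ = t := inv_eq_of_mul_eq_one_right htt
  have ht1 : t ≠ 1 := fun e => by rw [e, orderOf_one] at ht; omega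
  -- an involution inverts a normal subgroup of odd order
  have inverts : ∀ s : G, orderOf s = 2 → ∀ K : Subgroup G, K.Normal → Odd (Nat.card K) →
      ∀ x ∈ K, s * x * s⁻¹ = x⁻¹ := by
    intro s hs K hK hKo
    have hss : s * s = 1 := by rw [← pow_two, ← hs]; exact pow_orderOf_eq_one s
    have hsinv : s⁻¹ = s := inv_eq_of_mul_eq_one_right hss
    have hs1 : s ≠ 1 := fun e => by rw [e, orderOf_one] at hs; omega
    let f : K → K := fun x => ⟨(x : G)⁻¹ * (s * x * s⁻¹), mul_mem (inv_mem x.2) (hK.conj_mem _ x.2 s)⟩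
    have hf : Function.Injective f := by
      intro a b e
      have e' : (a : G)⁻¹ * (s * a * s⁻¹) = (b : G)⁻¹ * (s * b * s⁻¹) := congrArg Subtype.val e
      have hc : Commute ((b : G) * (a : G)⁻¹) s := by
        show (b : G) * (a : G)⁻¹ * s = s * ((b : G) * (a : G)⁻¹)
        calc (b : G) * (a : G)⁻¹ * s
            = b * ((a : G)⁻¹ * (s * a * s⁻¹)) * s * (a : G)⁻¹ := by group
          _ = _ := by rw [e']; group
      have h1 := h.eq_one_of_commute hs1 (k := 1) (by rw [pow_one, ← hs]; exact pow_orderOf_eq_one s)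
        (Odd.of_dvd_nat hKo (Subgroup.orderOf_dvd_natCard K (mul_mem b.2 (inv_mem a.2)))) hc
      exact Subtype.ext (mul_inv_eq_one.1 h1).symm
    intro x hx
    obtain ⟨⟨a, ha⟩, he⟩ := (Finite.injective_iff_surjective.1 hf) ⟨x, hx⟩
    have he' : a⁻¹ * (s * a * s⁻¹) = x := congrArg Subtype.val he
    rw [← he', hsinv, show s * (a⁻¹ * (s * a * s)) * s = (s * a⁻¹ * s) * a * (s * s) by group, hss, mul_one]
    rw [mul_inv_rev, inv_inv, mul_inv_rev, mul_inv_rev, hsinv]
    group
  -- the centraliser of `N` has odd order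
  set C : Subgroup G := centralizer (N : Set G) with hC
  have hCn : C.Normal := inferInstance
  have hCo : Odd (Nat.card C) := by
    refine Nat.not_even_iff_odd.1 fun he => ?_
    obtain ⟨s, hsC, hs⟩ := CfsgLib.Involutions.exists_involution_of_even_card C he
    obtain ⟨x, hx⟩ := N.ne_bot_iff_exists_ne_one.1 hne
    refine hx (Subtype.ext (h.eq_one_of_commute (q := s) (fun e => by rw [e, orderOf_one] at hs; omega)
      (k := 1) (by rw [pow_one, ← hs]; exact pow_orderOf_eq_one s)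
      (Odd.of_dvd_nat hodd (Subgroup.orderOf_dvd_natCard N x.2)) ?_))
    exact (mem_centralizer_iff.1 hsC x.1 x.2)
  have hCab : ∀ a ∈ C, ∀ b ∈ C, a * b = b * a := by
    intro a ha b hb
    have e := inverts t ht C hCn hCo _ (mul_mem ha hb)
    rw [show t * (a * b) * t⁻¹ = (t * a * t⁻¹) * (t * b * t⁻¹) by group, inverts t ht C hCn hCo a ha,
      inverts t ht C hCn hCo b hb, mul_inv_rev] at e
    calc a * b = (b⁻¹ * a⁻¹)⁻¹ := by group
      _ = b * a := by rw [← e]; group
  have hprod : ∀ g : G, g * t * g⁻¹ * t ∈ C := by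
    intro g
    rw [hC, mem_centralizer_iff]
    intro x hx
    have e1 := inverts t ht N hN hodd x hx
    have e2 := inverts (g * t * g⁻¹) ((CfsgLib.Involutions.orderOf_conj_eq g t).trans ht) N hN hodd _
      (inv_mem hx)
    rw [inv_inv, ← e1] at e2
    have e3 : g * t * g⁻¹ * t * x * (g * t * g⁻¹ * t)⁻¹ = x := by
      calc g * t * g⁻¹ * t * x * (g * t * g⁻¹ * t)⁻¹
          = g * t * g⁻¹ * (t * x * t⁻¹) * (g * t * g⁻¹)⁻¹ := by group
        _ = x := e2
    exact (mul_inv_eq_iff_eq_mul.1 e3).symm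
  -- every element is a product of an element of `C` and one centralising `t`
  have hcover : ∀ g : G, ∃ d ∈ C, d⁻¹ * g ∈ centralizer ({t} : Set G) := by
    intro g
    obtain ⟨i, hi⟩ := hCo
    set c : G := g * t * g⁻¹ * t with hc
    set d : G := c ^ (i + 1) with hd
    have hdC : d ∈ C := pow_mem (hprod g) _
    refine ⟨d, hdC, mem_cent.2 ?_⟩
    have hdd : d * d = c := by
      rw [hd, ← pow_add, show i + 1 + (i + 1) = (2 * i + 1) + 1 by ring, pow_succ, ← hi]
      have : c ^ Nat.card C = 1 := congrArg Subtype.val (pow_card_eq_one' (x := (⟨c, hprod g⟩ : C)))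
      rw [this, one_mul]
    have hdt : t * d⁻¹ * t⁻¹ = d := by rw [inverts t ht C hCn ⟨i, hi⟩ _ (inv_mem hdC), inv_inv]
    show d⁻¹ * g * t = t * (d⁻¹ * g)
    have e1 : g * t = d * d * t * g := by
      rw [hdd, hc]
      calc g * t = g * t * g⁻¹ * (t * t) * g := by rw [htt]; group
        _ = _ := by group
    calc d⁻¹ * g * t = d⁻¹ * (g * t) := by group
      _ = d * t * g := by rw [e1]; group
      _ = (t * d⁻¹ * t⁻¹) * t * g := by rw [hdt]
      _ = t * (d⁻¹ * g) := by group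
  refine hns ?_
  haveI : Group.IsSolvable ↥C := Group.isSolvable_of_comm fun a b => Subtype.ext (hCab a a.2 b b.2)
  haveI hCt : Group.IsSolvable ↥(centralizer ({t} : Set G)) := by
    haveI := (h t ht).isNilpotent
    infer_instance
  haveI : Group.IsSolvable (G ⧸ C) := by
    refine Group.isSolvable_of_surjective
      (f := (QuotientGroup.mk' C).comp (centralizer ({t} : Set G)).subtype) ?_
    intro x
    obtain ⟨g, rfl⟩ := QuotientGroup.mk'_surjective C x
    obtain ⟨d, hd, hdg⟩ := hcover g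
    refine ⟨⟨_, hdg⟩, ?_⟩
    show QuotientGroup.mk' C (d⁻¹ * g) = QuotientGroup.mk' C g
    rw [map_mul, map_inv, show QuotientGroup.mk' C d = 1 from (QuotientGroup.eq_one_iff d).2 hd, inv_one, one_mul]
  exact Group.isSolvable_of_ker_le_range C.subtype (QuotientGroup.mk' C)
    (by rw [QuotientGroup.ker_mk', range_subtype])

/-- A quotient of odd order by a nontrivial normal 2-subgroup is solvable. -/
theorem CIT.solvable_of_odd_quotient (h : CIT G) {R : Subgroup G} [R.Normal] (hR : IsPGroup 2 R)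
    (hR1 : R ≠ ⊥) (hodd : Odd (Nat.card (G ⧸ R))) : Group.IsSolvable (G ⧸ R) := by
  haveI : IsZGroup (G ⧸ R) := by
    rw [isZGroup_iff]
    intro r hr Q
    haveI : Fact r.Prime := ⟨hr⟩
    rcases eq_or_ne r 2 with rfl | hr2
    · obtain ⟨k, hk⟩ := Q.isPGroup'.exists_card_eq
      have hbot : (Q : Subgroup (G ⧸ R)) = ⊥ := Subgroup.eq_bot_of_card_eq _ (by
        rcases k with _ | k
        · simpa using hk
        · exact absurd (Odd.of_dvd_nat hodd (card_subgroup_dvd_card (Q : Subgroup (G ⧸ R))))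
            (by rw [hk, Nat.not_odd_iff_even]; exact even_two.pow_of_ne_zero (Nat.succ_ne_zero k)))
      rw [hbot]
      infer_instance
    obtain ⟨P, hP⟩ := Sylow.mapSurjective_surjective (QuotientGroup.mk'_surjective R) r Q
    letI : MulDistribMulAction ↥(P : Subgroup G) ↥R :=
      MulDistribMulAction.compHom ↥R ((MulAut.conjNormal (H := R)).comp (P : Subgroup G).subtype)
    have hPodd : ∀ x : ↥(P : Subgroup G), Odd (orderOf (x : G)) := fun x => by
      obtain ⟨k, hk⟩ := P.isPGroup' x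
      exact Odd.of_dvd_nat ((hr.odd_of_ne_two hr2).pow (n := k))
        (orderOf_dvd_of_pow_eq_one (congrArg Subtype.val hk : (x : G) ^ r ^ k = 1))
    have hfpf : CfsgLib.Frobenius.IsFPF ↥(P : Subgroup G) ↥R := by
      intro a ha n hn
      by_contra hn1
      obtain ⟨k, hk⟩ := hR n
      refine ha (Subtype.ext (h.eq_one_of_commute (q := (n : G)) (fun e => hn1 (Subtype.ext e))
        (congrArg Subtype.val hk : (n : G) ^ 2 ^ k = 1) (hPodd a) ?_))
      have e : (a : G) * n * (a : G)⁻¹ = n := congrArg Subtype.val hn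
      exact mul_inv_eq_iff_eq_mul.1 e
    haveI : Nontrivial ↥R := (nontrivial_iff_ne_bot R).2 hR1
    rcases CfsgLib.Structure81.isCyclic_or_quaternion_of_fpf P.isPGroup' hfpf with hc | ⟨k, ⟨e⟩⟩
    · rw [← hP, Sylow.coe_mapSurjective]
      exact isCyclic_of_surjective _ ((QuotientGroup.mk' R).subgroupMap_surjective (P : Subgroup G))
    · exfalso
      have hc : Nat.card ↥(P : Subgroup G) = 4 * 2 ^ k := by
        rw [Nat.card_congr e.toEquiv, Nat.card_eq_fintype_card, QuaternionGroup.card]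
      obtain ⟨j, hj⟩ := P.isPGroup'.exists_card_eq
      exact hr2 ((Nat.prime_dvd_prime_iff_eq Nat.prime_two hr).1
        (Nat.prime_two.dvd_of_dvd_pow (hj ▸ hc ▸ (Dvd.dvd.mul_right (by norm_num) _ : 2 ∣ 4 * 2 ^ k)))).symm
  infer_instance

/-- The structure theorem. -/
theorem isoSuzuki_quotient (h3 : ¬ 3 ∣ Nat.card G) (heven : 2 ∣ Nat.card G)
    (h2 : ∀ r : ℕ, r.Prime → r ≠ 2 → ∀ x : G, orderOf x ≠ 2 * r) (hns : ¬ Group.IsSolvable G) :
    Cfsg.Lie.IsoSuzuki (G ⧸ Cfsg.pCore 2 G) := by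
  haveI : Fact (Nat.Prime 2) := ⟨Nat.prime_two⟩
  haveI := Cfsg.pCore_normal 2 G
  set R : Subgroup G := Cfsg.pCore 2 G with hR
  have hR2 : IsPGroup 2 R := CfsgLib.PCore.pCore_isPGroup
  have hcit : CIT (G ⧸ R) := (cit_of_isolated h2).quotient hR2
  have h3' : ¬ 3 ∣ Nat.card (G ⧸ R) := fun e => h3 (e.trans (card_quotient_dvd_card R))
  have hns' : ¬ Group.IsSolvable (G ⧸ R) := fun hsol => hns (by
    haveI := hR2.isNilpotent
    exact Group.isSolvable_of_ker_le_range R.subtype (QuotientGroup.mk' R)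
      (by rw [QuotientGroup.ker_mk', range_subtype]))
  have heven' : 2 ∣ Nat.card (G ⧸ R) := by
    rcases Nat.prime_two.dvd_mul.1 (R.card_eq_card_quotient_mul_card_subgroup ▸ heven) with e | e
    · exact e
    · by_contra hno
      refine hns' ((cit_of_isolated h2).solvable_of_odd_quotient hR2 (fun e' => ?_)
        (Nat.odd_iff.2 (by omega)))
      rw [e', card_bot] at e
      omega
  refine isoSuzuki hcit h3' heven' (hcit.noOdd hns' heven') fun N hN hN2 => ?_
  have hb : Cfsg.pCore 2 (G ⧸ R) = ⊥ := CfsgLib.PCore.pCore_quotient_pCore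
  exact le_bot_iff.1 (hb ▸ CfsgLib.PCore.le_pCore hN hN2)

end CfsgLib.CITThree
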