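import Cfsg.Agent.Lib.Techniques.PPrimeP
import Cfsg.Agent.Lib.StrongEmbedding.Swap
import Cfsg.Agent.Lib.Frobenius.Basic
import Cfsg.Agent.S1224
import Cfsg.Agent.S1225
import Cfsg.Agent.S0042

/-!
# A strongly embedded normaliser of a trivial intersection Sylow 2-subgroup

The local consequences: the two point stabilisers on the cosets of the normaliser are abelian.
-/

set_option autoImplicit false
set_option linter.style.haveILetI false
set_option linter.unusedSimpArgs false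

namespace CfsgLib.CITThree

open Subgroup

universe u

theorem mem_cent {G : Type u} [Group G] {a y : G} : y ∈ centralizer ({a} : Set G) ↔ Commute y a :=
  ⟨fun h => mem_centralizer_singleton_iff.1 h, fun h => mem_centralizer_singleton_iff.2 h.eq⟩

/-- A Sylow `2`-subgroup containing the centralisers of its non-identity elements, with strongly
embedded normaliser and all its involutions central, in a group without normal subgroups of odd order
or normal `2`-subgroups. -/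
structure Setup (G : Type u) [Group G] where
  P : Sylow 2 G
  z : G
  hz : orderOf z = 2
  z_mem : z ∈ (P : Subgroup G)
  se : Cfsg.IsStronglyEmbedded (normalizer ((P : Subgroup G) : Set G))
  cent_le' : ∀ y ∈ (P : Subgroup G), y ≠ 1 → centralizer ({y} : Set G) ≤ P
  central : ∀ t ∈ (P : Subgroup G), orderOf t = 2 → ∀ y ∈ (P : Subgroup G), Commute y t
  noOdd : ∀ N : Subgroup G, N.Normal → Odd (Nat.card N) → N = ⊥
  noTwo : ∀ N : Subgroup G, N.Normal → IsPGroup 2 N → N = ⊥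

namespace Setup

variable {G : Type u} [Group G] (S : Setup G)

/-- The Sylow subgroup. -/
def H : Subgroup G := S.P

/-- Its normaliser. -/
def M : Subgroup G := normalizer (S.H : Set G)

theorem mem_H {y : G} : y ∈ S.H ↔ Commute y S.z :=
  ⟨fun h => S.central S.z S.z_mem S.hz y h,
    fun h => S.cent_le' S.z S.z_mem (fun e => by have := S.hz; rw [e, orderOf_one] at this; omega)
      (mem_cent.2 h)⟩

theorem z_ne : S.z ≠ 1 := fun e => by
  have h := S.hz; rw [e, orderOf_one] at h; omega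

theorem H_le_M : S.H ≤ S.M := le_normalizer

theorem conj_mem {g y : G} (hg : g ∈ S.M) (hy : y ∈ S.H) : g * y * g⁻¹ ∈ S.H :=
  ((mem_normalizer_iff.1 hg) y).1 hy

theorem H_ne_bot : S.H ≠ ⊥ := fun e => S.z_ne (mem_bot.1 (e ▸ S.z_mem))

theorem cent_le {y : G} (hy : y ∈ S.H) (hy1 : y ≠ 1) :
    centralizer ({y} : Set G) ≤ S.H := S.cent_le' y hy hy1

theorem se' : Cfsg.IsStronglyEmbedded S.M := S.se

variable [Finite G]

/-- A `2`-element of `M` lies in `H`. -/
theorem mem_H_of_orderOf_dvd {s : G} (hs : s ∈ S.M) (h : orderOf s ∣ Nat.card S.H) : s ∈ S.H := by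
  haveI : Fact (Nat.Prime 2) := ⟨Nat.prime_two⟩
  haveI : (S.H.subgroupOf S.M).Normal := normal_in_normalizer
  obtain ⟨n, hn⟩ := S.P.isPGroup'.exists_card_eq
  have hco : (Nat.card S.H).Coprime (S.H.subgroupOf S.M).index := by
    rw [show Nat.card S.H = 2 ^ n from hn]
    refine Nat.Coprime.pow_left n (Nat.prime_two.coprime_iff_not_dvd.2 fun h2 => ?_)
    exact S.P.not_dvd_index (h2.trans (relIndex_dvd_index_of_le S.H_le_M))
  have h3 : orderOf (QuotientGroup.mk' (S.H.subgroupOf S.M) ⟨s, hs⟩) = 1 :=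
    Nat.eq_one_of_dvd_coprimes hco
      (((orderOf_map_dvd _ _).trans (by rw [Subgroup.orderOf_mk])).trans h)
      ((_root_.orderOf_dvd_natCard _).trans (by rw [← index_eq_card]))
  rw [orderOf_eq_one_iff, QuotientGroup.mk'_apply, QuotientGroup.eq_one_iff, mem_subgroupOf] at h3
  exact h3

theorem involution_mem {s : G} (hs : s ∈ S.M) (h2 : orderOf s = 2) : s ∈ S.H :=
  S.mem_H_of_orderOf_dvd hs (h2 ▸ S.hz ▸ Subgroup.orderOf_dvd_natCard S.H S.z_mem)

theorem ti_H {g y : G} (hy : y ∈ S.H) (hy1 : y ≠ 1) (hgy : g * y * g⁻¹ ∈ S.H) : g ∈ S.M := by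
  obtain ⟨n, hn⟩ := S.P.isPGroup' ⟨y, hy⟩
  have hpow : orderOf y ∣ 2 ^ n := orderOf_dvd_of_pow_eq_one (congrArg Subtype.val hn)
  obtain ⟨k, -, hk⟩ := (Nat.dvd_prime_pow Nat.prime_two).1 hpow
  obtain ⟨j, rfl⟩ : ∃ j, k = j + 1 := ⟨k - 1, by
    rcases k with _ | k
    · exact absurd (orderOf_eq_one_iff.1 (by simpa using hk)) hy1
    · simp⟩
  have hw : orderOf (y ^ 2 ^ j) = 2 := by
    rw [orderOf_pow' y (Nat.two_pow_pos j).ne', hk,
      Nat.gcd_eq_right (pow_dvd_pow 2 (Nat.le_succ j)), pow_succ,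
      Nat.mul_div_cancel_left _ (Nat.two_pow_pos j)]
  have h : g⁻¹ ∈ S.M := CfsgLib.Involutions.se_mem_of_conj_mem S.se' (S.H_le_M (pow_mem hy _)) hw (by
    rw [inv_inv, ← conj_pow]
    exact S.H_le_M (pow_mem hgy _))
  simpa using inv_mem h

include S in
theorem no_nilpotent_normal {N : Subgroup G} [N.Normal] (hN : Group.IsNilpotent ↥N) : N = ⊥ := by
  haveI : Fact (Nat.Prime 2) := ⟨Nat.prime_two⟩
  obtain ⟨Q⟩ : Nonempty (Sylow 2 ↥N) := inferInstance
  haveI := hN
  have hQn : (Q : Subgroup ↥N).Normal := inferInstance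
  haveI : (Q : Subgroup ↥N).Characteristic := Q.characteristic_of_normal hQn
  have hbot := S.noTwo _ (ConjAct.normal_of_characteristic_of_normal (K := (Q : Subgroup ↥N)))
    (Q.isPGroup'.map _)
  rw [Subgroup.map_eq_bot_iff_of_injective _ N.subtype_injective] at hbot
  refine S.noOdd N ‹_› (Nat.not_even_iff_odd.1 fun he => ?_)
  have := Q.dvd_card_of_dvd_card he.two_dvd
  rw [hbot, Subgroup.card_bot] at this
  omega

theorem H_ne_top : S.H ≠ ⊤ := by
  intro h
  have := S.noTwo S.H (h ▸ inferInstance) S.P.isPGroup'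
  exact S.H_ne_bot this

/-- `M` is transitive on its involutions. -/
theorem exists_conj {s : G} (hs : s ∈ S.M) (h2 : orderOf s = 2) :
    ∃ g ∈ S.M, g * S.z * g⁻¹ = s := by
  obtain ⟨g, hg⟩ := isConj_iff.1 (CfsgLib.StrongEmbedding.isConj_involutions S.se' S.hz h2)
  exact ⟨g, S.ti_H S.z_mem S.z_ne (hg ▸ S.involution_mem hs h2), hg⟩

/-- The number of involutions in `M`. -/
noncomputable def r : ℕ := Nat.card {t : G // orderOf t = 2 ∧ t ∈ S.M}

theorem one_lt_r : 1 < S.r := by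
  have hpos : 0 < S.r := by
    haveI : Nonempty {t : G // orderOf t = 2 ∧ t ∈ S.M} := ⟨⟨S.z, S.hz, S.H_le_M S.z_mem⟩⟩
    exact Nat.card_pos
  by_contra hle
  have hsub : Subsingleton {t : G // orderOf t = 2 ∧ t ∈ S.M} :=
    Finite.card_le_one_iff_subsingleton.1 (not_lt.1 hle)
  have hMH : S.M ≤ S.H := fun g hg => by
    have h := Subsingleton.elim
      (⟨g * S.z * g⁻¹, (CfsgLib.Involutions.orderOf_conj_eq g S.z).trans S.hz,
        S.H_le_M (S.conj_mem hg S.z_mem)⟩ : {t : G // orderOf t = 2 ∧ t ∈ S.M})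
      ⟨S.z, S.hz, S.H_le_M S.z_mem⟩
    exact S.mem_H.2 (mul_inv_eq_iff_eq_mul.1 (congrArg Subtype.val h))
  have hF : Cfsg.IsFrobeniusComplement S.H := by
    refine ⟨S.H_ne_bot, S.H_ne_top, fun g hg => ?_⟩
    rw [eq_bot_iff]
    rintro x ⟨hx, hx'⟩
    replace hx' : g⁻¹ * x * g ∈ S.H := CfsgLib.Frobenius.mem_conj_smul_iff.1 hx'
    rw [mem_bot]
    by_contra hx1
    refine hg (hMH (S.ti_H hx' (fun e => hx1 (by
      rw [show x = g * (g⁻¹ * x * g) * g⁻¹ by group, e, mul_one, mul_inv_cancel])) ?_))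
    simpa [mul_assoc] using hx
  obtain ⟨N, hN, hNn, hNnil⟩ := Cfsg.Agent.S0042.result S.H hF
  have h1 := S.no_nilpotent_normal hNnil
  have h2 := CfsgLib.Frobenius.ncard_frobeniusKernel hF
  rw [← hN, h1, coe_bot, Set.ncard_singleton] at h2
  exact absurd (CfsgLib.Frobenius.one_lt_index hF) (by omega)

/-- The two point stabiliser attached to an element `u`. -/
def D (u : G) : Subgroup G := S.M ⊓ S.M.map (MulAut.conj u).toMonoidHom

variable {u : G} (hu : orderOf u = 2) (huM : u ∉ S.M)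

omit [Finite G] in
include hu in
theorem u_sq : u * u = 1 := by
  have h := pow_orderOf_eq_one u
  rwa [hu, pow_two] at h

omit [Finite G] in
include hu in
theorem mem_D {d : G} : d ∈ S.D u ↔ d ∈ S.M ∧ u * d * u ∈ S.M := by
  have hinv : u⁻¹ = u := inv_eq_of_mul_eq_one_right (u_sq hu)
  rw [D, mem_inf, MulEquiv.toMonoidHom_eq_coe, mem_map]
  refine and_congr_right fun _ => ⟨?_, fun h => ⟨u * d * u, h, ?_⟩⟩
  · rintro ⟨x, hx, rfl⟩
    have : u * (u * x * u⁻¹) * u = x := by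
      rw [hinv, show u * (u * x * u) * u = (u * u) * x * (u * u) by group, u_sq hu, one_mul,
        mul_one]
    simpa [this] using hx
  · show u * (u * d * u) * u⁻¹ = d
    rw [hinv, show u * (u * d * u) * u = (u * u) * d * (u * u) by group, u_sq hu, one_mul,
      mul_one]

include hu huM in
theorem D_inf_H {d : G} (hd : d ∈ S.D u) (hdH : d ∈ S.H) : d = 1 := by
  by_contra hd1
  have h := (S.mem_D hu).1 hd
  have hinv : u⁻¹ = u := inv_eq_of_mul_eq_one_right (u_sq hu)
  have h2 : u * d * u⁻¹ ∈ S.M := by rw [hinv]; exact h.2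
  refine huM (S.ti_H hdH hd1 (S.mem_H_of_orderOf_dvd h2 ?_))
  rw [CfsgLib.Involutions.orderOf_conj_eq]
  exact Subgroup.orderOf_dvd_natCard S.H hdH

include hu huM in
theorem D_map_bijective :
    Function.Bijective (fun d : ↥(S.D u) =>
      (⟨(d : G) * S.z * (d : G)⁻¹, (CfsgLib.Involutions.orderOf_conj_eq (d : G) S.z).trans S.hz,
        S.H_le_M (S.conj_mem ((S.mem_D hu).1 d.2).1 S.z_mem)⟩ :
        {t : G // orderOf t = 2 ∧ t ∈ S.M})) := by
  constructor
  · intro d e h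
    have h' : (d : G) * S.z * (d : G)⁻¹ = (e : G) * S.z * (e : G)⁻¹ := congrArg Subtype.val h
    have hH : (e : G)⁻¹ * d ∈ S.H := S.mem_H.2 (by
      show (e : G)⁻¹ * d * S.z = S.z * ((e : G)⁻¹ * d)
      calc (e : G)⁻¹ * d * S.z = (e : G)⁻¹ * ((d : G) * S.z * (d : G)⁻¹) * d := by group
        _ = S.z * ((e : G)⁻¹ * d) := by rw [h']; group)
    exact Subtype.ext (inv_mul_eq_one.1 (S.D_inf_H hu huM (mul_mem (inv_mem e.2) d.2) hH)).symm
  · rintro ⟨t, ht2, htM⟩
    obtain ⟨⟨d, hd, hdt⟩, -⟩ :=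
      Cfsg.Agent.S1225.result S.M S.se' u hu huM S.z t S.hz (S.H_le_M S.z_mem) ht2 htM
    exact ⟨⟨d, hd⟩, Subtype.ext hdt⟩

include hu huM in
theorem card_D : Nat.card ↥(S.D u) = S.r :=
  Nat.card_eq_of_bijective _ (S.D_map_bijective hu huM)

include hu huM in
/-- `u` inverts the two point stabiliser. -/
theorem inverted {d : G} (hd : d ∈ S.D u) : u * d * u = d⁻¹ := by
  have huu := u_sq hu
  have hinv : u⁻¹ = u := inv_eq_of_mul_eq_one_right huu
  let I : Set G := {d | d ∈ S.D u ∧ u * d * u = d⁻¹}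
  have hxy : ((1 : G) : G ⧸ S.M) ≠ ((u : G) : G ⧸ S.M) := fun h => huM (by
    rw [QuotientGroup.eq] at h; simpa using h)
  have hcard := Cfsg.Agent.S1224.result S.M S.se' _ _ hxy
  have key : ∀ i : {i : G // orderOf i = 2 ∧ i • ((1 : G) : G ⧸ S.M) = (u : G ⧸ S.M)},
      u * (i : G) ∈ I := by
    rintro ⟨i, hi2, hix⟩
    have hii : i * i = 1 := by
      have h := pow_orderOf_eq_one i
      rwa [hi2, pow_two] at h
    rw [MulAction.Quotient.smul_mk, QuotientGroup.eq, smul_eq_mul, mul_one] at hix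
    have hm : u * i ∈ S.M := by
      have := inv_mem hix
      simpa [hinv] using this
    have he : u * (u * i) * u = (u * i)⁻¹ := by
      rw [mul_inv_rev, hinv, inv_eq_of_mul_eq_one_right hii, ← mul_assoc u u i, huu, one_mul]
    exact ⟨(S.mem_D hu).2 ⟨hm, he ▸ inv_mem hm⟩, he⟩
  have hle : S.r ≤ I.ncard := by
    rw [r, ← hcard, ← Nat.card_coe_set_eq]
    refine Nat.card_le_card_of_injective (fun i => (⟨u * (i : G), key i⟩ : I)) fun a b h => ?_
    exact Subtype.ext (mul_left_cancel (congrArg Subtype.val h))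
  have hI : I = (S.D u : Set G) := by
    refine Set.eq_of_subset_of_ncard_le (fun x hx => hx.1) ?_ (Set.toFinite _)
    rw [← Nat.card_coe_set_eq, SetLike.coe_sort_coe, S.card_D hu huM]
    exact hle
  have : d ∈ I := hI ▸ hd
  exact this.2

include hu huM in
theorem D_comm {a b : G} (ha : a ∈ S.D u) (hb : b ∈ S.D u) : a * b = b * a := by
  have h := S.inverted hu huM (mul_mem ha hb)
  have huu := u_sq hu
  have h2 : u * (a * b) * u = a⁻¹ * b⁻¹ := by
    rw [← S.inverted hu huM ha, ← S.inverted hu huM hb,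
      show u * a * u * (u * b * u) = u * a * (u * u) * b * u by group, huu, mul_one]
    group
  rw [h, mul_inv_rev] at h2
  calc a * b = (b⁻¹ * a⁻¹)⁻¹ := by group
    _ = b * a := by rw [h2]; group

include hu huM in
theorem exists_mul {m : G} (hm : m ∈ S.M) : ∃ d ∈ S.D u, d⁻¹ * m ∈ S.H := by
  obtain ⟨d, hd⟩ := (S.D_map_bijective hu huM).2
    ⟨m * S.z * m⁻¹, (CfsgLib.Involutions.orderOf_conj_eq m S.z).trans S.hz,
      S.H_le_M (S.conj_mem hm S.z_mem)⟩
  have h' : (d : G) * S.z * (d : G)⁻¹ = m * S.z * m⁻¹ := congrArg Subtype.val hd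
  refine ⟨d, d.2, S.mem_H.2 ?_⟩
  show (d : G)⁻¹ * m * S.z = S.z * ((d : G)⁻¹ * m)
  calc (d : G)⁻¹ * m * S.z = (d : G)⁻¹ * (m * S.z * m⁻¹) * m := by group
    _ = S.z * ((d : G)⁻¹ * m) := by rw [← h']; group

include hu huM in
theorem odd_D : Odd (Nat.card ↥(S.D u)) := by
  by_contra h
  rw [Nat.not_odd_iff_even] at h
  obtain ⟨s, hs, hs2⟩ := CfsgLib.Involutions.exists_involution_of_even_card _ h
  have := S.D_inf_H hu huM hs (S.involution_mem ((S.mem_D hu).1 hs).1 hs2)
  rw [this, orderOf_one] at hs2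
  omega

include hu huM in
theorem card_M : Nat.card ↥S.M = Nat.card ↥S.H * S.r := by
  rw [← S.card_D hu huM, ← Nat.card_prod]
  refine (Nat.card_eq_of_bijective (fun p : ↥S.H × ↥(S.D u) =>
    (⟨(p.2 : G) * (p.1 : G), mul_mem ((S.mem_D hu).1 p.2.2).1 (S.H_le_M p.1.2)⟩ : ↥S.M))
    ⟨?_, ?_⟩).symm
  · rintro ⟨h, d⟩ ⟨h', d'⟩ e
    have e' : (d : G) * h = (d' : G) * h' := congrArg Subtype.val e
    have h1 : (d' : G)⁻¹ * d = (h' : G) * (h : G)⁻¹ := by
      calc (d' : G)⁻¹ * d = (d' : G)⁻¹ * ((d : G) * h) * (h : G)⁻¹ := by group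
        _ = _ := by rw [e']; group
    have h2 := S.D_inf_H hu huM (mul_mem (inv_mem d'.2) d.2)
      (h1 ▸ mul_mem h'.2 (inv_mem h.2))
    rw [h2] at h1
    exact Prod.ext (Subtype.ext (mul_inv_eq_one.1 h1.symm).symm)
      (Subtype.ext (inv_mul_eq_one.1 h2).symm)
  · rintro ⟨m, hm⟩
    obtain ⟨d, hd, hdm⟩ := S.exists_mul hu huM hm
    exact ⟨(⟨_, hdm⟩, ⟨d, hd⟩), Subtype.ext (mul_inv_cancel_left d m)⟩

end Setup

end CfsgLib.CITThree
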