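import Cfsg.Agent.Lib.SuzukiGroup.SubgroupBasic
import Cfsg.Agent.Lib.SuzukiOvoid.Subgroups
import Cfsg.Agent.Lib.NumberTheory.Zsigmondy

/-!
# The prime graph of a Suzuki group
-/

set_option autoImplicit false

namespace CfsgLib.CITThree.SzGraph

open CfsgLib.SuzukiGroup

variable {F : Type*} [Field F] [Fintype F] {m : ℕ}

theorem card_eq (hF : Fintype.card F = 2 ^ (2 * m + 1)) :
    Nat.card ↥(Cfsg.Lie.Sz F (2 ^ (m + 1))) =
      (2 ^ (2 * m + 1)) ^ 2 * (2 ^ (2 * m + 1) - 1) * ((2 ^ (2 * m + 1)) ^ 2 + 1) := by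
  obtain ⟨hc, ⟨P⟩⟩ := exists_params hF
  rw [card_sz P, hF]

theorem three (hF : Fintype.card F = 2 ^ (2 * m + 1)) (hm : 1 ≤ m) :
    ¬ 3 ∣ Nat.card ↥(Cfsg.Lie.Sz F (2 ^ (m + 1))) := by
  obtain ⟨hc, ⟨P⟩⟩ := exists_params hF
  exact (oddTI P hF hm).three

theorem two_isolated (hF : Fintype.card F = 2 ^ (2 * m + 1)) (hm : 1 ≤ m) {r : ℕ} (hr : r.Prime)
    (hr2 : r ≠ 2) (x : ↥(Cfsg.Lie.Sz F (2 ^ (m + 1)))) : orderOf x ≠ 2 * r := by
  obtain ⟨hc, ⟨P⟩⟩ := exists_params hF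
  intro hx
  have h4 : ¬ orderOf x ∣ 4 := fun h => by
    have := (Nat.prime_dvd_prime_iff_eq hr Nat.prime_two).1
      (hr.dvd_of_dvd_pow (show r ∣ 2 ^ 2 from ((dvd_mul_left r 2).trans (hx ▸ h))))
    exact hr2 this
  exact Nat.not_even_iff_odd.2 ((oddTI P hF hm).odd_order h4) (hx ▸ even_two_mul r)

theorem pair (hF : Fintype.card F = 2 ^ (2 * m + 1)) (hm : 1 ≤ m) {r s : ℕ} (hr : r.Prime)
    (hs : s.Prime) (hrq : r ∣ 2 ^ (2 * m + 1) - 1) (hsq : s ∣ (2 ^ (2 * m + 1)) ^ 2 + 1)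
    (x : ↥(Cfsg.Lie.Sz F (2 ^ (m + 1)))) : orderOf x ≠ r * s := by
  obtain ⟨hc, ⟨P⟩⟩ := exists_params hF
  intro hx
  obtain ⟨q, hq⟩ : ∃ q, 2 ^ (2 * m + 1) = q + 1 :=
    ⟨2 ^ (2 * m + 1) - 1, by have := Nat.two_pow_pos (2 * m + 1); omega⟩
  have hboth : ∀ t : ℕ, t.Prime → t ∣ 2 ^ (2 * m + 1) - 1 → t ∣ (2 ^ (2 * m + 1)) ^ 2 + 1 → False := by
    intro t ht h1 h2
    rw [hq, Nat.add_sub_cancel] at h1
    rw [hq, show (q + 1) ^ 2 + 1 = q * (q + 2) + 2 by ring] at h2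
    have h2' : t = 2 := (Nat.prime_dvd_prime_iff_eq ht Nat.prime_two).1
      ((Nat.dvd_add_right (h1.trans (dvd_mul_right q (q + 2)))).1 h2)
    subst h2'
    have : 2 ∣ 2 ^ (2 * m + 1) := dvd_pow_self 2 (by omega)
    omega
  have hr2 : r ≠ 2 := fun h => by
    subst h
    have : 2 ∣ 2 ^ (2 * m + 1) := dvd_pow_self 2 (by omega)
    omega
  set g := x ^ s with hg
  have hog : orderOf g = r := by
    rw [hg, orderOf_pow' x hs.ne_zero, hx, Nat.gcd_eq_right (dvd_mul_left s r),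
      Nat.mul_div_cancel _ hs.pos]
  have h1 : g ≠ 1 := fun e => hr.ne_one (by rw [← hog, e, orderOf_one])
  have hxc : x ∈ Subgroup.centralizer {g} := Subgroup.mem_centralizer_singleton_iff.2
    (Commute.self_pow x s).eq
  have hord : r * s ∣ Nat.card ↥(Subgroup.centralizer {g}) :=
    hx ▸ Subgroup.orderOf_dvd_natCard _ hxc
  obtain ⟨hA, hB⟩ := toA_toB_dvd (m := m) hF
  rw [hF] at hA hB
  rcases element_cases P hF hm h1 with h | ⟨-, h | h | h⟩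
  · rw [hog] at h
    exact hr2 ((Nat.prime_dvd_prime_iff_eq hr Nat.prime_two).1 (hr.dvd_of_dvd_pow (show r ∣ 2 ^ 2 from h)))
  · rw [h, hF] at hord
    exact hboth s hs ((dvd_mul_left s r).trans hord) hsq
  · rw [h] at hord
    exact hboth r hr hrq (((dvd_mul_right r s).trans hord).trans hA)
  · rw [h] at hord
    exact hboth r hr hrq (((dvd_mul_right r s).trans hord).trans hB)

/-- A primitive prime divisor of `2 ^ (4 n) - 1` determines the parameter. -/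
theorem dvd_of_primes {m k : ℕ}
    (h : ∀ r : ℕ, r.Prime → r ∣ (2 ^ (2 * m + 1)) ^ 2 * (2 ^ (2 * m + 1) - 1) * ((2 ^ (2 * m + 1)) ^ 2 + 1) →
      r ∣ (2 ^ (2 * k + 1)) ^ 2 * (2 ^ (2 * k + 1) - 1) * ((2 ^ (2 * k + 1)) ^ 2 + 1)) :
    2 * m + 1 ∣ 2 * k + 1 := by
  obtain ⟨n, hn⟩ : ∃ n, n = 2 * m + 1 := ⟨_, rfl⟩
  obtain ⟨l, hl⟩ : ∃ l, l = 2 * k + 1 := ⟨_, rfl⟩
  rw [← hn, ← hl] at h ⊢
  obtain ⟨r, hr⟩ := CfsgLib.NumberTheory.exists_isPPD_of_two_lt (a := 2) (n := 4 * n) (by norm_num)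
    (by omega) (by omega)
  have hrp := hr.prime
  have hnd := hr.not_dvd_base (by norm_num) (by omega)
  have key := hr.dvd_pow_sub_one_iff (by norm_num) (show 0 < 4 * n by omega)
  have hfac : ∀ j : ℕ, 2 ^ (4 * j) - 1 = ((2 ^ j) ^ 2 + 1) * ((2 ^ j) ^ 2 - 1) := fun j => by
    obtain ⟨t, ht⟩ : ∃ t, (2 ^ j) ^ 2 = t + 1 :=
      ⟨(2 ^ j) ^ 2 - 1, by have := Nat.one_le_pow 2 (2 ^ j) (Nat.two_pow_pos j); omega⟩
    have h4 : 2 ^ (4 * j) = (t + 1) * (t + 1) := by rw [← ht]; ring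
    rw [ht, h4, Nat.add_sub_cancel, show (t + 1) * (t + 1) = (t + 1 + 1) * t + 1 by ring, Nat.add_sub_cancel]
  have hsq : ¬ r ∣ (2 ^ n) ^ 2 - 1 := by
    rw [← pow_mul, key]
    intro h'
    have := Nat.le_of_dvd (by omega) h'
    omega
  have hdiv : r ∣ (2 ^ n) ^ 2 + 1 :=
    (hrp.dvd_mul.1 (hfac n ▸ hr.2.1)).resolve_right hsq
  have hl' : r ∣ 2 ^ (4 * l) - 1 := by
    rcases hrp.dvd_mul.1 (h r hrp (hdiv.trans (dvd_mul_left _ _))) with h' | h'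
    · rcases hrp.dvd_mul.1 h' with h'' | h''
      · exact absurd (hrp.dvd_of_dvd_pow (hrp.dvd_of_dvd_pow h'')) hnd
      · exact h''.trans (by simpa using Nat.pow_sub_pow_dvd_pow_sub_pow 2 1 (dvd_mul_left l 4))
    · exact hfac l ▸ h'.trans (dvd_mul_right _ _)
  have h4 := (key _).1 hl'
  exact (Nat.mul_dvd_mul_iff_left (by norm_num : 0 < 4)).1 h4

/-- Suzuki groups with the same prime divisors have the same parameter. -/
theorem param_eq {m k : ℕ}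
    (h : ∀ r : ℕ, r.Prime → (r ∣ (2 ^ (2 * m + 1)) ^ 2 * (2 ^ (2 * m + 1) - 1) * ((2 ^ (2 * m + 1)) ^ 2 + 1) ↔
      r ∣ (2 ^ (2 * k + 1)) ^ 2 * (2 ^ (2 * k + 1) - 1) * ((2 ^ (2 * k + 1)) ^ 2 + 1))) : m = k := by
  have h1 := Nat.dvd_antisymm (dvd_of_primes fun r hr => (h r hr).1) (dvd_of_primes fun r hr => (h r hr).2)
  omega

/-- Suzuki groups over fields of the same order are isomorphic. -/
theorem nonempty_equiv {K : Type*} [Field K] [Fintype K] (hF : Fintype.card F = 2 ^ (2 * m + 1))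
    (hK : Fintype.card K = 2 ^ (2 * m + 1)) :
    Nonempty (↥(Cfsg.Lie.Sz K (2 ^ (m + 1))) ≃* ↥(Cfsg.Lie.Sz F (2 ^ (m + 1)))) := by
  obtain ⟨hc, ⟨P⟩⟩ := exists_params hF
  obtain ⟨hc', ⟨P'⟩⟩ := exists_params hK
  exact ⟨szEquiv (FiniteField.ringEquivOfCardEq (hK.trans hF.symm)) P P'⟩

end CfsgLib.CITThree.SzGraph
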